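import Cfsg.Agent.PlaneFour.Transfer

/-!
# Counting arcs in the standard plane of order four
-/

set_option autoImplicit false

namespace CfsgLib.PlaneFour

open Finset

/-- The lines as bit masks. -/
def mask : Fin 21 → ℕ :=
  ![65551, 65776, 69376, 126976, 135441, 139810, 148548, 166024, 2031616, 295969, 280594, 270724, 266824, 557378, 530468, 541313, 533528, 1081876, 1058881, 1053826, 1065256]

theorem mask_spec : ∀ k x, (mask k).testBit x.val = true ↔ x ∈ line k := by decide +kernel

theorem indep_iff (S : Finset (Fin 21)) :
    Indep S ↔ ∀ k, (S.filter fun x => (mask k).testBit x.val = true).card ≤ 2 := by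
  refine forall_congr' fun k => ?_
  have : (S.filter fun x => (mask k).testBit x.val = true) = line k ∩ S := by
    ext x
    simp [mask_spec, and_comm]
  rw [this]

theorem card_indep_four :
    (((univ : Finset (Fin 21)).powersetCard 4).filter Indep).card = 2520 := by
  simp only [indep_iff]
  decide +kernel

/-- The standard quadrangle. -/
def quad : Finset (Fin 21) := {16, 17, 0, 5}

/-- The hyperoval through the standard quadrangle. -/
def oval : Finset (Fin 21) := {16, 17, 0, 5, 11, 14}

theorem indep_oval : Indep oval := by decide +kernel

theorem mem_oval_of_indep : ∀ x, Indep (insert x quad) → x ∈ oval := by decide +kernel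

end CfsgLib.PlaneFour
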