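import Mathlib

/-!
# The projective plane of order four as a design on twenty-one labels

Labels `4 i + j` are the affine cells, `16, ..., 20` the points of the line at infinity.  The twelve
lines in general position are the graphs of the twelve even permutations of four letters, the three
parallel classes being the cosets of the four-group.
-/

set_option autoImplicit false

namespace CfsgLib.PlaneFour

/-- The twelve even permutations of four letters, sorted by cosets of the four-group. -/
def pm : Fin 12 → Fin 4 → Fin 4 :=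
  ![![0, 1, 2, 3], ![1, 0, 3, 2], ![2, 3, 0, 1], ![3, 2, 1, 0], ![1, 2, 0, 3], ![2, 1, 3, 0], ![0, 3, 1, 2], ![3, 0, 2, 1], ![2, 0, 1, 3], ![0, 2, 3, 1], ![1, 3, 2, 0], ![3, 1, 0, 2]]

/-- The twenty-one lines. -/
def line : Fin 21 → Finset (Fin 21) :=
  ![{0, 1, 2, 3, 16},
    {4, 5, 6, 7, 16},
    {8, 9, 10, 11, 16},
    {12, 13, 14, 15, 16},
    {0, 4, 8, 12, 17},
    {1, 5, 9, 13, 17},
    {2, 6, 10, 14, 17},
    {3, 7, 11, 15, 17},
    {16, 17, 18, 19, 20},
    {0, 5, 10, 15, 18},
    {1, 4, 11, 14, 18},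
    {2, 7, 8, 13, 18},
    {3, 6, 9, 12, 18},
    {1, 6, 8, 15, 19},
    {2, 5, 11, 12, 19},
    {0, 7, 9, 14, 19},
    {3, 4, 10, 13, 19},
    {2, 4, 9, 15, 20},
    {0, 6, 11, 13, 20},
    {1, 7, 10, 12, 20},
    {3, 5, 8, 14, 20}]

/-- The label of a cell. -/
def cellLabel (i j : Fin 4) : Fin 21 := ⟨4 * i.val + j.val, by omega⟩

/-- The label of the coset of the four-group containing `pm m`. -/
def classLabel (m : Fin 12) : Fin 21 := ⟨18 + m.val / 4, by omega⟩

/-- At most one common value. -/
abbrev Sharp (f g : Fin 4 → Fin 4) : Prop := ∀ i i', f i = g i → f i' = g i' → i = i'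

theorem line_card : ∀ k, (line k).card = 5 := by decide +kernel

theorem line_injective : Function.Injective line := by decide +kernel

theorem line_row : ∀ i : Fin 4, line ⟨i.val, by omega⟩ =
    insert 16 (Finset.univ.image (cellLabel i)) := by decide +kernel

theorem line_col : ∀ j : Fin 4, line ⟨4 + j.val, by omega⟩ =
    insert 17 (Finset.univ.image fun i => cellLabel i j) := by decide +kernel

theorem line_inf : line 8 = {16, 17, 18, 19, 20} := by decide +kernel

theorem line_gen : ∀ m : Fin 12, line ⟨9 + m.val, by omega⟩ =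
    insert (classLabel m) (Finset.univ.image fun i => cellLabel i (pm m i)) := by decide +kernel

theorem label_cases : ∀ k : Fin 21, (∃ i j, k = cellLabel i j) ∨ k ∈ line 8 := by decide +kernel

theorem line_cases : ∀ k : Fin 21, (∃ i : Fin 4, k = ⟨i.val, by omega⟩) ∨
    (∃ j : Fin 4, k = ⟨4 + j.val, by omega⟩) ∨ k = 8 ∨ ∃ m : Fin 12, k = ⟨9 + m.val, by omega⟩ := by
  decide +kernel

theorem pm_zero : pm 0 = id := by decide +kernel

/-- The only sharp candidate through a fixed point and a moved pair is the 3-cycle. -/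
theorem pm_of_fix : ∀ (m : Fin 12) (i j : Fin 4), pm m i = i → pm m j ≠ j →
    ∀ f : Fin 4 → Fin 4, f i = i → f j = pm m j → Sharp f id → (∀ a b, f a = f b → a = b) →
      f = pm m := by
  decide +kernel

theorem exists_moved : ∀ (m : Fin 12), (∃ i, pm m i = i) → m ≠ 0 →
    ∃ i j, pm m i = i ∧ pm m j ≠ j := by
  decide +kernel

/-- A permutation which is sharp against all 3-cycles is even. -/
theorem exists_pm : ∀ f : Fin 4 → Fin 4, (∀ a b, f a = f b → a = b) → (f = id ∨ Sharp f id) →
    (∀ m : Fin 12, (∃ i, pm m i = i) → f = pm m ∨ Sharp f (pm m)) → ∃ m, f = pm m := by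
  decide +kernel

theorem pm_eq_of_two : ∀ m m' : Fin 12, pm m' 0 = pm m 0 → pm m' 1 = pm m 1 → m' = m := by
  decide +kernel

theorem pm_disjoint : ∀ m m' : Fin 12, m.val / 4 = m'.val / 4 → m ≠ m' →
    ∀ i, pm m i ≠ pm m' i := by
  decide +kernel

theorem pm_meet : ∀ m m' : Fin 12, m.val / 4 ≠ m'.val / 4 → ∃ i, pm m i = pm m' i := by
  decide +kernel

end CfsgLib.PlaneFour
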