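import Cfsg.Prelude.Def_Sporadic_a
import Cfsg.Agent.Design.SteinerCount
import Cfsg.Agent.PlaneFour.Model

/-!
# Coordinates on a projective plane of order four

Every ordered quadrangle of a Steiner system `S(2, 5, 21)` is the image of the standard quadrangle
`16, 17, 0, 5` under a bijection carrying the standard plane onto the given one.
-/

set_option autoImplicit false

namespace CfsgLib.PlaneFour

open Finset Cfsg

variable {α : Type*} [DecidableEq α] {L : Set (Finset α)}

theorem eq_of_two (hL : IsSteinerSystem 2 5 L) {l m : Finset α} (hl : l ∈ L) (hm : m ∈ L) {a b : α}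
    (hab : a ≠ b) (hal : a ∈ l) (hbl : b ∈ l) (ham : a ∈ m) (hbm : b ∈ m) : l = m :=
  (hL.2 {a, b} (card_pair hab)).unique
    ⟨hl, insert_subset hal (singleton_subset_iff.2 hbl)⟩
    ⟨hm, insert_subset ham (singleton_subset_iff.2 hbm)⟩

theorem eq_point (hL : IsSteinerSystem 2 5 L) {l m : Finset α} (hl : l ∈ L) (hm : m ∈ L)
    (hlm : l ≠ m) {a b : α} (hal : a ∈ l) (ham : a ∈ m) (hbl : b ∈ l) (hbm : b ∈ m) : a = b :=
  by_contra fun h => hlm (eq_of_two hL hl hm h hal hbl ham hbm)

theorem exists_line (hL : IsSteinerSystem 2 5 L) {a b : α} (hab : a ≠ b) :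
    ∃ l ∈ L, a ∈ l ∧ b ∈ l := by
  obtain ⟨l, ⟨hl, hs⟩, -⟩ := hL.2 {a, b} (card_pair hab)
  exact ⟨l, hl, hs (by simp), hs (by simp)⟩

variable [Fintype α]

theorem card_through (hL : IsSteinerSystem 2 5 L) (hα : Fintype.card α = 21) (a : α) :
    ((CfsgLib.Design.blocksFinset L).filter (a ∈ ·)).card = 5 := by
  classical
  have h := CfsgLib.Design.steiner_lambda hL {a} (by simp)
  simp only [card_singleton, singleton_subset_iff, hα] at h
  norm_num at h
  omega

theorem card_lines (hL : IsSteinerSystem 2 5 L) (hα : Fintype.card α = 21) :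
    (CfsgLib.Design.blocksFinset L).card = 21 := by
  classical
  have h := CfsgLib.Design.steiner_lambda hL ∅ (by simp)
  simp only [card_empty, empty_subset, filter_true_of_mem, implies_true, hα] at h
  norm_num [Nat.choose] at h
  omega

theorem exists_meet (hL : IsSteinerSystem 2 5 L) (hα : Fintype.card α = 21) {l m : Finset α}
    (hl : l ∈ L) (hm : m ∈ L) : ∃ x, x ∈ l ∧ x ∈ m := by
  classical
  have hne : l.Nonempty := card_pos.1 (by rw [hL.1 l hl]; norm_num)
  obtain ⟨a, ha⟩ := hne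
  by_cases ham : a ∈ m
  · exact ⟨a, ha, ham⟩
  choose f hfL hfa hfx using fun x : m =>
    exists_line hL (show a ≠ (x : α) from fun h => ham (h ▸ x.2))
  have hinj : Function.Injective f := fun x y h => Subtype.ext <| by_contra fun hne => ham <| by
    have := eq_of_two hL (hfL x) hm hne (hfx x) (h ▸ hfx y) x.2 y.2
    exact this ▸ hfa x
  have himg : (univ.image f) = (CfsgLib.Design.blocksFinset L).filter (a ∈ ·) := by
    refine eq_of_subset_of_card_le ?_ ?_
    · intro k hk
      obtain ⟨x, -, rfl⟩ := mem_image.1 hk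
      exact mem_filter.2 ⟨CfsgLib.Design.mem_blocksFinset.2 (hfL x), hfa x⟩
    · rw [card_through hL hα, card_image_of_injective _ hinj, card_univ, Fintype.card_coe,
        hL.1 m hm]
  have : l ∈ univ.image f := by
    rw [himg]; exact mem_filter.2 ⟨CfsgLib.Design.mem_blocksFinset.2 hl, ha⟩
  obtain ⟨x, -, hx⟩ := mem_image.1 this
  exact ⟨x, hx ▸ hfx x, x.2⟩

/-- **Coordinates.** -/
theorem exists_frame (hL : IsSteinerSystem 2 5 L) (hα : Fintype.card α = 21) {a b c e : α}
    (hab : a ≠ b) (hac : a ≠ c) (hae : a ≠ e) (hbc : b ≠ c) (hbe : b ≠ e) (hce : c ≠ e)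
    (habc : ∀ l ∈ L, a ∈ l → b ∈ l → c ∉ l) (habe : ∀ l ∈ L, a ∈ l → b ∈ l → e ∉ l)
    (hace : ∀ l ∈ L, a ∈ l → c ∈ l → e ∉ l) (hbce : ∀ l ∈ L, b ∈ l → c ∈ l → e ∉ l) :
    ∃ φ : Fin 21 ≃ α, L = (fun s : Finset (Fin 21) => s.image φ) '' Set.range line ∧
      φ 16 = a ∧ φ 17 = b ∧ φ 0 = c ∧ φ 5 = e := by
  classical
  have hE : ∀ {l}, l ∈ CfsgLib.Design.blocksFinset L ↔ l ∈ L := CfsgLib.Design.mem_blocksFinset
  obtain ⟨linf, hinfL, hainf, hbinf⟩ := exists_line hL hab
  have hcinf : c ∉ linf := habc _ hinfL hainf hbinf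
  have heinf : e ∉ linf := habe _ hinfL hainf hbinf
  obtain ⟨d, hdL, hcd, hed⟩ := exists_line hL hce
  have had : a ∉ d := fun h => hace d hdL h hcd hed
  have hbd : b ∉ d := fun h => hbce d hdL h hcd hed
  obtain ⟨ra, hraL, hara, hcra⟩ := exists_line hL hac
  obtain ⟨rb, hrbL, harb, herb⟩ := exists_line hL hae
  have hab' : ra ≠ rb := fun h => hace ra hraL hara hcra (h ▸ herb)
  have hra : ra ≠ linf := fun h => hcinf (h ▸ hcra)
  have hrb : rb ≠ linf := fun h => heinf (h ▸ herb)
  -- the rows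
  obtain ⟨u, v, huv, hF⟩ : ∃ u v, u ≠ v ∧
      ((((CfsgLib.Design.blocksFinset L).filter (a ∈ ·)).erase linf).erase ra).erase rb = {u, v} := by
    rw [← card_eq_two, card_erase_of_mem, card_erase_of_mem, card_erase_of_mem,
      card_through hL hα]
    · exact mem_filter.2 ⟨hE.2 hinfL, hainf⟩
    · exact mem_erase.2 ⟨hra, mem_filter.2 ⟨hE.2 hraL, hara⟩⟩
    · exact mem_erase.2 ⟨Ne.symm hab', mem_erase.2 ⟨hrb, mem_filter.2 ⟨hE.2 hrbL, harb⟩⟩⟩
  have huF : u ∈ ((((CfsgLib.Design.blocksFinset L).filter (a ∈ ·)).erase linf).erase ra).erase rb :=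
    by rw [hF]; simp
  have hvF : v ∈ ((((CfsgLib.Design.blocksFinset L).filter (a ∈ ·)).erase linf).erase ra).erase rb :=
    by rw [hF]; simp
  simp only [mem_erase, mem_filter, hE] at huF hvF
  let r : Fin 4 → Finset α := ![ra, rb, u, v]
  have hr : ∀ i, r i ∈ L ∧ a ∈ r i ∧ r i ≠ linf := by
    intro i; fin_cases i
    exacts [⟨hraL, hara, hra⟩, ⟨hrbL, harb, hrb⟩, ⟨huF.2.2.2.1, huF.2.2.2.2, huF.2.2.1⟩,
      ⟨hvF.2.2.2.1, hvF.2.2.2.2, hvF.2.2.1⟩]
  have hrinj : Function.Injective r := by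
    intro i j h
    fin_cases i <;> fin_cases j <;> simp [r] at h ⊢ <;>
      first
        | exact hab' h
        | exact hab' h.symm
        | exact huv h
        | exact huv h.symm
        | exact huF.2.1 h
        | exact huF.2.1 h.symm
        | exact huF.1 h
        | exact huF.1 h.symm
        | exact hvF.2.1 h
        | exact hvF.2.1 h.symm
        | exact hvF.1 h
        | exact hvF.1 h.symm
  have hrall : ∀ l ∈ L, a ∈ l → l ≠ linf → ∃ i, r i = l := by
    intro l hl hal hne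
    by_cases h0 : l = ra; · exact ⟨0, h0.symm⟩
    by_cases h1 : l = rb; · exact ⟨1, h1.symm⟩
    have : l ∈ ({u, v} : Finset (Finset α)) := by
      rw [← hF]; simp only [mem_erase, mem_filter, hE]; exact ⟨h1, h0, hne, hl, hal⟩
    simp only [mem_insert, mem_singleton] at this
    rcases this with h | h
    exacts [⟨2, h.symm⟩, ⟨3, h.symm⟩]
  -- the points of `d` and the columns
  choose D hDr hDd using fun i => exists_meet hL hα (hr i).1 hdL
  have hDa : ∀ i, D i ≠ a := fun i h => had (h ▸ hDd i)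
  have hDb : ∀ i, b ≠ D i := fun i h => hbd (h ▸ hDd i)
  choose col hcolL hbcol hDcol using fun i => exists_line hL (hDb i)
  have hDinf : ∀ i, D i ∉ linf := fun i h =>
    hDa i (eq_point hL (hr i).1 hinfL (hr i).2.2 (hDr i) h (hr i).2.1 hainf)
  have hDinj : Function.Injective D := fun i j h => hrinj <|
    eq_of_two hL (hr i).1 (hr j).1 (hDa i) (hDr i) (hr i).2.1 (h ▸ hDr j) (hr j).2.1
  have hcolinf : ∀ j, col j ≠ linf := fun j h => hDinf j (h ▸ hDcol j)
  have hcolinj : Function.Injective col := fun i j h => hDinj <|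
    eq_point hL (hcolL i) hdL (fun hh => hbd (hh ▸ hbcol i)) (hDcol i) (hDd i) (h ▸ hDcol j) (hDd j)
  have hcola : ∀ j, a ∉ col j := fun j h =>
    hcolinf j (eq_of_two hL (hcolL j) hinfL hab h (hbcol j) hainf hbinf)
  have hrb' : ∀ i, b ∉ r i := fun i h =>
    (hr i).2.2 (eq_of_two hL (hr i).1 hinfL hab (hr i).2.1 h hainf hbinf)
  have hcolall : ∀ l ∈ L, b ∈ l → l ≠ linf → ∃ j, col j = l := by
    intro l hl hbl hne
    have hsub : univ.image col ⊆ ((CfsgLib.Design.blocksFinset L).filter (b ∈ ·)).erase linf := by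
      intro k hk
      obtain ⟨j, -, rfl⟩ := mem_image.1 hk
      exact mem_erase.2 ⟨hcolinf j, mem_filter.2 ⟨hE.2 (hcolL j), hbcol j⟩⟩
    have heq := eq_of_subset_of_card_le hsub (by
      rw [card_erase_of_mem (mem_filter.2 ⟨hE.2 hinfL, hbinf⟩), card_through hL hα,
        card_image_of_injective _ hcolinj, card_univ, Fintype.card_fin])
    have : l ∈ univ.image col := by
      rw [heq]; exact mem_erase.2 ⟨hne, mem_filter.2 ⟨hE.2 hl, hbl⟩⟩
    obtain ⟨j, -, hj⟩ := mem_image.1 this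
    exact ⟨j, hj⟩
  -- cells
  choose cell hcr hcc using fun i j => exists_meet hL hα (hr i).1 (hcolL j)
  have hca : ∀ i j, cell i j ≠ a := fun i j h => hcola j (h ▸ hcc i j)
  have hcb : ∀ i j, cell i j ≠ b := fun i j h => hrb' i (h ▸ hcr i j)
  have hcinfty : ∀ i j, cell i j ∉ linf := fun i j h =>
    hca i j (eq_point hL (hr i).1 hinfL (hr i).2.2 (hcr i j) h (hr i).2.1 hainf)
  have hcell_inj : ∀ i i' j j', cell i j = cell i' j' → i = i' ∧ j = j' := fun i i' j j' h =>
    ⟨hrinj (eq_of_two hL (hr i).1 (hr i').1 (hca i j) (hcr i j) (hr i).2.1 (h ▸ hcr i' j')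
      (hr i').2.1),
    hcolinj (eq_of_two hL (hcolL j) (hcolL j') (hcb i j) (hcc i j) (hbcol j) (h ▸ hcc i' j')
      (hbcol j'))⟩
  have hcell_eq : ∀ x, x ∉ linf → ∀ i j, x ∈ r i → x ∈ col j → x = cell i j := fun x hx i j hi hj =>
    eq_point hL (hr i).1 (hcolL j) (fun h => hcola j (h ▸ (hr i).2.1)) hi hj (hcr i j) (hcc i j)
  have hcell_cov : ∀ x, x ∉ linf → ∃ i j, x = cell i j := by
    intro x hx
    obtain ⟨l, hl, hal, hxl⟩ := exists_line hL (show a ≠ x from fun h => hx (h ▸ hainf))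
    obtain ⟨m, hm, hbm, hxm⟩ := exists_line hL (show b ≠ x from fun h => hx (h ▸ hbinf))
    obtain ⟨i, hi⟩ := hrall l hl hal (fun h => hx (h ▸ hxl))
    obtain ⟨j, hj⟩ := hcolall m hm hbm (fun h => hx (h ▸ hxm))
    exact ⟨i, j, hcell_eq x hx i j (hi ▸ hxl) (hj ▸ hxm)⟩
  have hDcell : ∀ i, D i = cell i i := fun i => hcell_eq _ (hDinf i) i i (hDr i) (hDcol i)
  -- general lines as permutations
  let IsGraph : Finset α → (Fin 4 → Fin 4) → Prop := fun l f => l ∈ L ∧ a ∉ l ∧ b ∉ l ∧
    ∀ i j, cell i j ∈ l ↔ f i = j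
  have hgraph : ∀ l ∈ L, a ∉ l → b ∉ l →
      ∃ f : Fin 4 → Fin 4, IsGraph l f ∧ ∀ x y, f x = f y → x = y := by
    intro l hl hal hbl
    choose P hPr hPl using fun i => exists_meet hL hα (hr i).1 hl
    have hPinf : ∀ i, P i ∉ linf := fun i h => hal (by
      have := eq_point hL (hr i).1 hinfL (hr i).2.2 (hPr i) h (hr i).2.1 hainf
      exact this ▸ hPl i)
    choose f₀ f hf using fun i => hcell_cov (P i) (hPinf i)
    have hf' : ∀ i, P i = cell i (f i) := fun i => by
      have hi : f₀ i = i := hrinj <| eq_of_two hL (hr _).1 (hr i).1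
        (show a ≠ P i from fun h => hal (h ▸ hPl i)) (hr _).2.1 (by rw [hf i]; exact hcr _ _)
        (hr i).2.1 (hPr i)
      rw [hf i, hi]
    refine ⟨f, ⟨hl, hal, hbl, fun i j => ⟨fun h => ?_, fun h => ?_⟩⟩, fun x y h => ?_⟩
    · refine (hcell_inj i i (f i) j ?_).2
      rw [← hf']
      exact eq_point hL (hr i).1 hl (fun hh => hal (hh ▸ (hr i).2.1)) (hPr i) (hPl i) (hcr i j) h
    · rw [← h, ← hf']; exact hPl i
    · refine (hcell_inj x y (f x) (f y) ?_).1
      have h1 : cell x (f x) ∈ col (f y) := h ▸ hcc x (f x)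
      exact eq_point hL (hcolL (f y)) hl (fun hh => hbl (hh ▸ hbcol _)) h1
        (hf' x ▸ hPl x) (hcc y (f y)) (hf' y ▸ hPl y)
  have hline_of_two : ∀ i i' j j' : Fin 4, i ≠ i' → j ≠ j' →
      ∃ l f, IsGraph l f ∧ (∀ x y, f x = f y → x = y) ∧ f i = j ∧ f i' = j' := by
    intro i i' j j' hi hj
    obtain ⟨l, hl, h1, h2⟩ := exists_line hL (show cell i j ≠ cell i' j' from fun h =>
      hi (hcell_inj _ _ _ _ h).1)
    have hal : a ∉ l := fun h => hi (hrinj ((eq_of_two hL (hr i).1 hl (hca i j).symm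
      (hr i).2.1 (hcr i j) h h1).trans (eq_of_two hL hl (hr i').1 (hca i' j').symm h h2
      (hr i').2.1 (hcr i' j'))))
    have hbl : b ∉ l := fun h => hj (hcolinj ((eq_of_two hL (hcolL j) hl (hcb i j).symm
      (hbcol j) (hcc i j) h h1).trans (eq_of_two hL hl (hcolL j') (hcb i' j').symm h h2
      (hbcol j') (hcc i' j'))))
    obtain ⟨f, hf, hinj⟩ := hgraph l hl hal hbl
    exact ⟨l, f, hf, hinj, (hf.2.2.2 i j).1 h1, (hf.2.2.2 i' j').1 h2⟩
  have hsharp : ∀ {l m f g}, IsGraph l f → IsGraph m g → f = g ∨ Sharp f g := by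
    intro l m f g hf hg
    by_cases hlm : l = m
    · subst hlm
      exact Or.inl (funext fun i => ((hg.2.2.2 i (f i)).1 ((hf.2.2.2 i (f i)).2 rfl)).symm)
    · refine Or.inr fun i i' h h' => (hcell_inj i i' (f i) (f i') ?_).1
      exact eq_point hL hf.1 hg.1 hlm ((hf.2.2.2 _ _).2 rfl) ((hg.2.2.2 _ _).2 h.symm)
        ((hf.2.2.2 _ _).2 rfl) ((hg.2.2.2 _ _).2 h'.symm)
  have hdgraph : IsGraph d id := ⟨hdL, had, hbd, fun i j => ⟨fun h => by
    refine ((hcell_inj i i i j ?_).2 : i = j)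
    rw [← hDcell]
    exact eq_point hL (hr i).1 hdL (fun hh => had (hh ▸ (hr i).2.1)) (hDr i) (hDd i) (hcr i j) h,
    fun h => by subst h; exact hDcell i ▸ hDd i⟩⟩
  have hthree : ∀ m, (∃ i, pm m i = i) → ∃ l, IsGraph l (pm m) := by
    intro m hm
    by_cases hm0 : m = 0
    · exact ⟨d, by rw [hm0, pm_zero]; exact hdgraph⟩
    obtain ⟨i, j, hi, hj⟩ := exists_moved m hm hm0
    have hij : i ≠ j := fun h => hj (h ▸ hi)
    have hinjm : ∀ m : Fin 12, ∀ x y, pm m x = pm m y → x = y := by decide +kernel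
    obtain ⟨l, f, hf, hinj, hfi, hfj⟩ := hline_of_two i j i (pm m j) hij fun h =>
      hij (hinjm m i j (hi.trans h))
    have hne : f ≠ id := fun h => hj (by rw [h] at hfj; exact hfj.symm)
    have := pm_of_fix m i j hi hj f hfi hfj ((hsharp hf hdgraph).resolve_left hne) hinj
    exact ⟨l, this ▸ hf⟩
  have hall : ∀ m, ∃ l, IsGraph l (pm m) := by
    intro m
    have hinjm : ∀ m : Fin 12, pm m 0 ≠ pm m 1 := by decide +kernel
    obtain ⟨l, f, hf, hinj, h0, h1⟩ := hline_of_two 0 1 (pm m 0) (pm m 1) (by decide) (hinjm m)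
    obtain ⟨m', rfl⟩ := exists_pm f hinj (hsharp hf hdgraph) fun k hk =>
      hsharp hf (hthree k hk).choose_spec
    obtain rfl := pm_eq_of_two m m' h0 h1
    exact ⟨l, hf⟩
  choose gl hgl using hall
  -- the points at infinity
  choose W hWl hWinf using fun m => exists_meet hL hα (hgl m).1 hinfL
  have hglinf : ∀ m, gl m ≠ linf := fun m h => (hgl m).2.1 (h ▸ hainf)
  have hW : ∀ m m', m.val / 4 = m'.val / 4 → W m = W m' := by
    intro m m' h
    by_cases hmm : m = m'
    · rw [hmm]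
    obtain ⟨x, hx, hx'⟩ := exists_meet hL hα (hgl m).1 (hgl m').1
    by_cases hxi : x ∈ linf
    · exact (eq_point hL (hgl m).1 hinfL (hglinf m) (hWl m) (hWinf m) hx hxi).trans
        (eq_point hL (hgl m').1 hinfL (hglinf m') hx' hxi (hWl m') (hWinf m'))
    · obtain ⟨i, j, rfl⟩ := hcell_cov x hxi
      exact absurd (((hgl m).2.2.2 i j).1 hx |>.trans (((hgl m').2.2.2 i j).1 hx').symm)
        (pm_disjoint m m' h hmm i)
  have hW' : ∀ m m', m.val / 4 ≠ m'.val / 4 → W m ≠ W m' := by
    intro m m' h hWW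
    obtain ⟨i, hi⟩ := pm_meet m m' h
    have hne : gl m ≠ gl m' := fun hl => by
      have : pm m = pm m' := funext fun x =>
        (((hgl m').2.2.2 x (pm m x)).1 (hl ▸ ((hgl m).2.2.2 x _).2 rfl)).symm
      have hinj : ∀ m m' : Fin 12, (∀ x, pm m x = pm m' x) → m = m' := by decide +kernel
      exact h (by rw [hinj m m' (fun x => by rw [this])])
    exact hcinfty i (pm m i) (eq_point hL (hgl m).1 (hgl m').1 hne
      (((hgl m).2.2.2 i _).2 rfl) (((hgl m').2.2.2 i _).2 hi.symm) (hWl m) (hWW ▸ hWl m') ▸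
      hWinf m)
  -- the bijection
  let φ : Fin 21 → α := fun k =>
    if h : k.val < 16 then cell ⟨k.val / 4, by omega⟩ ⟨k.val % 4, by omega⟩
    else if k = 16 then a else if k = 17 then b else
      W ⟨4 * (k.val - 18), by have := k.isLt; omega⟩
  have hφcell : ∀ i j, φ (cellLabel i j) = cell i j := fun i j => by
    simp only [φ, cellLabel]
    rw [dif_pos (show 4 * i.val + j.val < 16 by omega)]
    congr 1 <;> exact Fin.ext (by simp only; omega)
  have hφ16 : φ 16 = a := rfl
  have hφ17 : φ 17 = b := rfl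
  have hφclass : ∀ m : Fin 12, φ (classLabel m) = W m := fun m => by
    simp only [φ, classLabel]
    rw [dif_neg (by omega), if_neg (fun h => by simp [Fin.ext_iff] at h; omega),
      if_neg (fun h => by simp [Fin.ext_iff] at h; omega)]
    exact hW _ _ (by simp only; omega)
  have hWa : ∀ m, W m ≠ a := fun m h => (hgl m).2.1 (h ▸ hWl m)
  have hWb : ∀ m, W m ≠ b := fun m h => (hgl m).2.2.1 (h ▸ hWl m)
  have h8mem : ∀ k ∈ line 8, k = 16 ∨ k = 17 ∨ ∃ m, k = classLabel m := by decide +kernel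
  have hφinf : ∀ k ∈ line 8, φ k ∈ linf := by
    intro k hk
    rcases h8mem k hk with rfl | rfl | ⟨m, rfl⟩
    exacts [hainf, hbinf, hφclass m ▸ hWinf m]
  have hinj : Function.Injective φ := by
    intro k k' h
    rcases label_cases k with ⟨i, j, rfl⟩ | hk <;> rcases label_cases k' with ⟨i', j', rfl⟩ | hk'
    · rw [hφcell, hφcell] at h
      obtain ⟨rfl, rfl⟩ := hcell_inj _ _ _ _ h; rfl
    · exact absurd (h ▸ hφinf k' hk') (by rw [hφcell]; exact hcinfty i j)
    · exact absurd (h.symm ▸ hφinf k hk) (by rw [hφcell]; exact hcinfty i' j')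
    · rcases h8mem k hk with rfl | rfl | ⟨m, rfl⟩ <;>
        rcases h8mem k' hk' with rfl | rfl | ⟨m', rfl⟩ <;> simp only [hφ16, hφ17, hφclass] at h
      · rfl
      · exact absurd h hab
      · exact absurd h.symm (hWa m')
      · exact absurd h.symm hab
      · rfl
      · exact absurd h.symm (hWb m')
      · exact absurd h (hWa m)
      · exact absurd h (hWb m)
      · by_cases hq : m.val / 4 = m'.val / 4
        · exact Fin.ext (by simp only [classLabel]; omega)
        · exact absurd h (hW' m m' hq)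
  let e' : Fin 21 ≃ α := Equiv.ofBijective φ
    ((Fintype.bijective_iff_injective_and_card φ).2 ⟨hinj, by simp [hα]⟩)
  have hsub : ∀ k, (line k).image φ ∈ L := by
    intro k
    have key : ∀ l ∈ L, (∀ x ∈ line k, φ x ∈ l) → (line k).image φ ∈ L := fun l hl hx => by
      rw [eq_of_subset_of_card_le (image_subset_iff.2 hx) (by
        rw [card_image_of_injective _ hinj, line_card, hL.1 l hl])]
      exact hl
    rcases line_cases k with ⟨i, rfl⟩ | ⟨j, rfl⟩ | rfl | ⟨m, rfl⟩
    · refine key (r i) (hr i).1 ?_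
      rw [line_row]
      simp only [forall_mem_insert, forall_mem_image, mem_univ, forall_const]
      exact ⟨(hr i).2.1, fun j => hφcell i j ▸ hcr i j⟩
    · refine key (col j) (hcolL j) ?_
      rw [line_col]
      simp only [forall_mem_insert, forall_mem_image, mem_univ, forall_const]
      exact ⟨hbcol j, fun i => hφcell i j ▸ hcc i j⟩
    · exact key linf hinfL hφinf
    · refine key (gl m) (hgl m).1 ?_
      rw [line_gen]
      simp only [forall_mem_insert, forall_mem_image, mem_univ, forall_const]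
      exact ⟨hφclass m ▸ hWl m, fun i => by rw [hφcell]; exact ((hgl m).2.2.2 i _).2 rfl⟩
  refine ⟨e', ?_, hφ16, hφ17, ?_, ?_⟩
  · have himg : (univ.image fun k => (line k).image φ) = CfsgLib.Design.blocksFinset L := by
      refine eq_of_subset_of_card_le (fun l hl => ?_) ?_
      · obtain ⟨k, -, rfl⟩ := mem_image.1 hl
        exact hE.2 (hsub k)
      · rw [card_lines hL hα, card_image_of_injective _
          (show Function.Injective fun k => (line k).image φ from
            (image_injective hinj).comp line_injective), card_univ, Fintype.card_fin]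
    ext l
    rw [← hE, ← himg]
    simp only [mem_image, mem_univ, true_and, Set.mem_image, Set.mem_range, exists_exists_eq_and]
    rfl
  · show φ (cellLabel 0 0) = c
    rw [hφcell]
    have h0 : D 0 = c := eq_point hL hraL hdL (fun h => had (h ▸ hara)) (hDr 0) (hDd 0) hcra hcd
    rw [← hDcell, h0]
  · show φ (cellLabel 1 1) = e
    rw [hφcell]
    have h1 : D 1 = e := eq_point hL hrbL hdL (fun h => had (h ▸ harb)) (hDr 1) (hDd 1) herb hed
    rw [← hDcell, h1]

end CfsgLib.PlaneFour
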