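import Cfsg.Agent.PlaneFour.Count

/-!
# Hyperovals in a plane of order four
-/

set_option autoImplicit false

namespace CfsgLib.PlaneFour

open Finset Cfsg

variable {α : Type*} [DecidableEq α] [Fintype α] {L : Set (Finset α)}

theorem frame_of_indep (hL : IsSteinerSystem 2 5 L) (hα : Fintype.card α = 21) {H : Finset α}
    (hH : ∀ l ∈ L, (l ∩ H).card ≤ 2) {a b c e : α} (hab : a ≠ b) (hac : a ≠ c) (hae : a ≠ e)
    (hbc : b ≠ c) (hbe : b ≠ e) (hce : c ≠ e) (ha : a ∈ H) (hb : b ∈ H) (hc : c ∈ H) (he : e ∈ H) :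
    ∃ φ : Fin 21 ≃ α, L = (fun s : Finset (Fin 21) => s.image φ) '' Set.range line ∧
      φ 16 = a ∧ φ 17 = b ∧ φ 0 = c ∧ φ 5 = e := by
  have key : ∀ x y z : α, x ∈ H → y ∈ H → z ∈ H → x ≠ y → x ≠ z → y ≠ z →
      ∀ l ∈ L, x ∈ l → y ∈ l → z ∉ l := by
    intro x y z hx hy hz h1 h2 h3 l hl hxl hyl hzl
    have h := card_le_card (show ({x, y, z} : Finset α) ⊆ l ∩ H by
      simp only [insert_subset_iff, singleton_subset_iff, mem_inter]; tauto)
    rw [card_eq_three.2 ⟨x, y, z, h1, h2, h3, rfl⟩] at h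
    exact absurd (h.trans (hH l hl)) (by norm_num)
  exact exists_frame hL hα hab hac hae hbc hbe hce (key a b c ha hb hc hab hac hbc)
    (key a b e ha hb he hab hae hbe) (key a c e ha hc he hac hae hce)
    (key b c e hb hc he hbc hbe hce)

/-- Every arc of four points lies in exactly one hyperoval. -/
theorem existsUnique_oval (hL : IsSteinerSystem 2 5 L) (hα : Fintype.card α = 21) {S : Finset α}
    (hS4 : S.card = 4) (hS : ∀ l ∈ L, (l ∩ S).card ≤ 2) :
    ∃! H : Finset α, (H.card = 6 ∧ ∀ l ∈ L, (l ∩ H).card ≤ 2) ∧ S ⊆ H := by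
  obtain ⟨a, b, c, e, hab, hac, hae, hbc, hbe, hce, rfl⟩ := card_eq_four.1 hS4
  obtain ⟨φ, hφ, h1, h2, h3, h4⟩ := frame_of_indep hL hα hS hab hac hae hbc hbe hce
    (by simp) (by simp) (by simp) (by simp)
  have hq : quad.image φ = {a, b, c, e} := by simp [quad, h1, h2, h3, h4]
  refine ⟨oval.image φ, ⟨⟨?_, (indep_image hφ oval).2 indep_oval⟩, ?_⟩, ?_⟩
  · rw [card_image_of_injective _ φ.injective]; rfl
  · rw [← hq]; exact image_subset_image (by decide)
  · rintro H ⟨⟨hH6, hH⟩, hSH⟩
    refine eq_of_subset_of_card_le (fun x hx => ?_) ?_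
    · refine mem_image.2 ⟨φ.symm x, mem_oval_of_indep _ ((indep_image hφ _).1 fun l hl => ?_),
        φ.apply_symm_apply x⟩
      refine (card_le_card (inter_subset_inter_left ?_)).trans (hH l hl)
      rw [image_insert, φ.apply_symm_apply, hq]
      exact insert_subset hx hSH
    · rw [card_image_of_injective _ φ.injective, hH6]; rfl

theorem card_arcs (hL : IsSteinerSystem 2 5 L) (hα : Fintype.card α = 21) :
    {S : Finset α | S.card = 4 ∧ ∀ l ∈ L, (l ∩ S).card ≤ 2}.ncard = 2520 := by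
  obtain ⟨φ, hφ⟩ := exists_model hL hα
  have : {S : Finset α | S.card = 4 ∧ ∀ l ∈ L, (l ∩ S).card ≤ 2} =
      (fun s : Finset (Fin 21) => s.image φ) ''
        ↑(((univ : Finset (Fin 21)).powersetCard 4).filter Indep) := by
    ext S
    simp only [Set.mem_setOf_eq, Set.mem_image, coe_filter, mem_powersetCard_univ]
    constructor
    · rintro ⟨h4, hS⟩
      have hb : (S.image φ.symm).image φ = S := by
        rw [image_image, Equiv.self_comp_symm, image_id]
      refine ⟨S.image φ.symm, ⟨?_, (indep_image hφ _).1 (hb.symm ▸ hS)⟩, hb⟩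
      rw [card_image_of_injective _ φ.symm.injective, h4]
    · rintro ⟨s, ⟨h4, hs⟩, rfl⟩
      exact ⟨(card_image_of_injective _ φ.injective).trans h4, (indep_image hφ s).2 hs⟩
  rw [this, Set.ncard_image_of_injective _ (image_injective φ.injective), Set.ncard_coe_finset,
    card_indep_four]

theorem card_ovals (hL : IsSteinerSystem 2 5 L) (hα : Fintype.card α = 21) :
    {H : Finset α | H.card = 6 ∧ ∀ l ∈ L, (l ∩ H).card ≤ 2}.ncard = 168 := by
  classical
  set A : Finset (Finset α) :=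
    univ.filter fun S => S.card = 4 ∧ ∀ l ∈ L, (l ∩ S).card ≤ 2
  set O : Finset (Finset α) :=
    univ.filter fun H => H.card = 6 ∧ ∀ l ∈ L, (l ∩ H).card ≤ 2
  have hA : A.card = 2520 := by
    rw [← card_arcs hL hα, ← Set.ncard_coe_finset]; congr 1; ext; simp [A]
  have hsplit : A = O.biUnion fun H => H.powersetCard 4 := by
    ext S
    simp only [mem_biUnion, mem_powersetCard, A, O, mem_filter, mem_univ, true_and]
    constructor
    · rintro ⟨h4, hS⟩
      obtain ⟨H, ⟨hH, hSH⟩, -⟩ := existsUnique_oval hL hα h4 hS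
      exact ⟨H, hH, hSH, h4⟩
    · rintro ⟨H, hH, hSH, h4⟩
      exact ⟨h4, fun l hl => (card_le_card (inter_subset_inter_left hSH)).trans (hH.2 l hl)⟩
  have hdisj : (↑O : Set (Finset α)).PairwiseDisjoint fun H => H.powersetCard 4 := by
    intro H hH H' hH' hne
    refine disjoint_left.2 fun S hS hS' => hne ?_
    simp only [mem_powersetCard] at hS hS'
    simp only [O, coe_filter, mem_univ, true_and, Set.mem_setOf_eq] at hH hH'
    exact (existsUnique_oval hL hα hS.2 fun l hl =>
      (card_le_card (inter_subset_inter_left hS.1)).trans (hH.2 l hl)).unique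
      ⟨hH, hS.1⟩ ⟨hH', hS'.1⟩
  rw [hsplit, card_biUnion hdisj, sum_congr rfl (g := fun _ => 15) (fun H hH => by
    simp only [O, mem_filter] at hH
    rw [card_powersetCard, hH.2.1]; rfl), sum_const, smul_eq_mul] at hA
  have : {H : Finset α | H.card = 6 ∧ ∀ l ∈ L, (l ∩ H).card ≤ 2} = ↑O := by ext; simp [O]
  rw [this, Set.ncard_coe_finset]
  omega

/-- The automorphism of the standard plane exchanging the two extension points. -/
def frob : Equiv.Perm (Fin 21) :=
  Equiv.swap 2 3 * Equiv.swap 6 7 * Equiv.swap 8 12 * Equiv.swap 9 13 * Equiv.swap 10 15 *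
    Equiv.swap 11 14 * Equiv.swap 19 20

theorem frob_line : ∀ k, ∃ k', (line k).image frob = line k' := by decide +kernel

theorem frob_oval : frob 16 = 16 ∧ frob 17 = 17 ∧ frob 0 = 0 ∧ frob 5 = 5 ∧ frob 11 = 14 ∧
    frob 14 = 11 := by decide +kernel

/-- Off the oval, a point is the only common point of two secants. -/
theorem secants : ∀ x, x ∉ oval → ∃ k k' : Fin 21, (line k ∩ oval).card = 2 ∧
    (line k' ∩ oval).card = 2 ∧ line k ∩ line k' = {x} := by decide +kernel

end CfsgLib.PlaneFour
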