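import Cfsg.Agent.PlaneFour.Frame

/-!
# Moving statements about a plane of order four to the standard one
-/

set_option autoImplicit false

namespace CfsgLib.PlaneFour

open Finset Cfsg

variable {α : Type*} [DecidableEq α] [Fintype α] {L : Set (Finset α)}

theorem exists_model (hL : IsSteinerSystem 2 5 L) (hα : Fintype.card α = 21) :
    ∃ φ : Fin 21 ≃ α, L = (fun s : Finset (Fin 21) => s.image φ) '' Set.range line := by
  classical
  obtain ⟨a, b, hab⟩ := Fintype.exists_pair_of_one_lt_card (show 1 < Fintype.card α by omega)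
  obtain ⟨l, hl, hal, hbl⟩ := exists_line hL hab
  obtain ⟨c, hc⟩ : ∃ c, c ∉ l := by
    by_contra h
    push Not at h
    have := hL.1 l hl
    rw [eq_univ_iff_forall.2 h, card_univ, hα] at this
    omega
  obtain ⟨m, hm, ham, hcm⟩ := exists_line hL (show a ≠ c from fun h => hc (h ▸ hal))
  obtain ⟨n, hn, hbn, hcn⟩ := exists_line hL (show b ≠ c from fun h => hc (h ▸ hbl))
  obtain ⟨e, he⟩ : ∃ e, e ∉ l ∪ m ∪ n := by
    by_contra h
    push Not at h
    have := (card_union_le (l ∪ m) n).trans (Nat.add_le_add_right (card_union_le l m) _)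
    rw [eq_univ_iff_forall.2 h, card_univ, hα, hL.1 l hl, hL.1 m hm, hL.1 n hn] at this
    omega
  simp only [mem_union, not_or] at he
  have hac : a ≠ c := fun h => hc (h ▸ hal)
  have hbc : b ≠ c := fun h => hc (h ▸ hbl)
  obtain ⟨φ, hφ, -⟩ := exists_frame (e := e) hL hα hab hac (fun h => he.1.1 (h ▸ hal)) hbc
    (fun h => he.1.1 (h ▸ hbl)) (fun h => he.1.2 (h ▸ hcm))
    (fun k hk h1 h2 => eq_of_two hL hl hk hab hal hbl h1 h2 ▸ hc)
    (fun k hk h1 h2 => eq_of_two hL hl hk hab hal hbl h1 h2 ▸ he.1.1)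
    (fun k hk h1 h2 => eq_of_two hL hm hk hac ham hcm h1 h2 ▸ he.1.2)
    (fun k hk h1 h2 => eq_of_two hL hn hk hbc hbn hcn h1 h2 ▸ he.2)
  exact ⟨φ, hφ⟩

/-- No line meets the set in more than two points. -/
abbrev Indep (S : Finset (Fin 21)) : Prop := ∀ k, (line k ∩ S).card ≤ 2

omit [Fintype α] in
theorem indep_image {φ : Fin 21 ≃ α}
    (hφ : L = (fun s : Finset (Fin 21) => s.image φ) '' Set.range line) (S : Finset (Fin 21)) :
    (∀ l ∈ L, (l ∩ S.image φ).card ≤ 2) ↔ Indep S := by
  subst hφ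
  simp only [Set.forall_mem_image, Set.forall_mem_range]
  refine forall_congr' fun k => ?_
  rw [← image_inter _ _ φ.injective, card_image_of_injective _ φ.injective]

end CfsgLib.PlaneFour
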